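import Mathlib.Algebra.Homology.HomotopyCategory.KInjective
import Mathlib.Algebra.Homology.Double
import Mathlib.Algebra.Homology.HomologicalComplexAbelian
import Mathlib.Algebra.Homology.ShortComplex.ShortExact
import Mathlib.CategoryTheory.Preadditive.Injective.Basic

set_option linter.unusedSectionVars false
set_option linter.unusedVariables false
set_option linter.unusedSimpArgs false
set_option autoImplicit false
set_option linter.style.haveILetI false
set_option maxHeartbeats 400000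

noncomputable section

namespace Groth.Agent.Lib.Helper6.KInj

open CategoryTheory CategoryTheory.Limits HomologicalComplex

universe v u

variable {A : Type u} [Category.{v} A] [Abelian A]

lemma hrel (n : ℤ) : (ComplexShape.up ℤ).Rel n (n + 1) := rfl

lemma hne (n : ℤ) : n ≠ n + 1 := by omega

/-- the disc complex -/
abbrev Dsc (n : ℤ) (W : A) : CochainComplex A ℤ := double (𝟙 W) (hrel n)

/-- functoriality of the disc complex -/
def dmap (n : ℤ) {W W' : A} (u : W ⟶ W') : Dsc n W ⟶ Dsc n W' :=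
  mkHomFromDouble (hrel n) (hne n) (u ≫ (doubleXIso₀ (𝟙 W') (hrel n)).inv)
    (u ≫ (doubleXIso₁ (𝟙 W') (hrel n) (hne n)).inv)
    (by rw [double_d _ _ (hne n)]; simp)
    (fun k hk => by rw [double_d_eq_zero₀ _ _ _ _ (hne n).symm, comp_zero])

lemma dmap_f₀ (n : ℤ) {W W' : A} (u : W ⟶ W') :
    (dmap n u).f n = (doubleXIso₀ (𝟙 W) (hrel n)).hom ≫ u ≫ (doubleXIso₀ (𝟙 W') (hrel n)).inv :=
  mkHomFromDouble_f₀ _ _ _ _ _ _

lemma dmap_f₁ (n : ℤ) {W W' : A} (u : W ⟶ W') :
    (dmap n u).f (n + 1) = (doubleXIso₁ (𝟙 W) (hrel n) (hne n)).hom ≫ u ≫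
      (doubleXIso₁ (𝟙 W') (hrel n) (hne n)).inv :=
  mkHomFromDouble_f₁ _ _ _ _ _ _

lemma dmap_comp (n : ℤ) {W W' W'' : A} (u : W ⟶ W') (u' : W' ⟶ W'') :
    dmap n u ≫ dmap n u' = dmap n (u ≫ u') := by
  apply from_double_hom_ext
  · rw [comp_f, dmap_f₀, dmap_f₀, dmap_f₀]; simp
  · rw [comp_f, dmap_f₁, dmap_f₁, dmap_f₁]; simp

lemma dmap_zero (n : ℤ) {W W' : A} : dmap n (0 : W ⟶ W') = 0 := by
  apply from_double_hom_ext
  · rw [dmap_f₀]; simp
  · rw [dmap_f₁]; simp

/-- the short complex of discs -/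
def discSC (n : ℤ) {X Y : A} (i : X ⟶ Y) : ShortComplex (CochainComplex A ℤ) :=
  ShortComplex.mk (dmap n i) (dmap n (cokernel.π i)) (by
    rw [dmap_comp, cokernel.condition, dmap_zero])

lemma baseSE {X Y : A} (i : X ⟶ Y) [Mono i] :
    (ShortComplex.mk i (cokernel.π i) (cokernel.condition i)).ShortExact where
  exact := ShortComplex.exact_cokernel i

lemma discSC_shortExact (n : ℤ) {X Y : A} (i : X ⟶ Y) [Mono i] : (discSC n i).ShortExact := by
  apply HomologicalComplex.shortExact_of_degreewise_shortExact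
  intro k
  by_cases h0 : k = n
  · subst h0
    refine ShortComplex.shortExact_of_iso ?_ (baseSE i)
    refine ShortComplex.isoMk (doubleXIso₀ (𝟙 X) (hrel k)).symm (doubleXIso₀ (𝟙 Y) (hrel k)).symm
      (doubleXIso₀ (𝟙 (cokernel i)) (hrel k)).symm ?_ ?_
    · change _ ≫ (dmap k i).f k = _
      rw [dmap_f₀]; simp; rfl
    · change _ ≫ (dmap k (cokernel.π i)).f k = _
      rw [dmap_f₀]; simp; rfl
  · by_cases h1 : k = n + 1
    · subst h1
      refine ShortComplex.shortExact_of_iso ?_ (baseSE i)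
      refine ShortComplex.isoMk (doubleXIso₁ (𝟙 X) (hrel n) (hne n)).symm
        (doubleXIso₁ (𝟙 Y) (hrel n) (hne n)).symm
        (doubleXIso₁ (𝟙 (cokernel i)) (hrel n) (hne n)).symm ?_ ?_
      · change _ ≫ (dmap n i).f (n + 1) = _
        rw [dmap_f₁]; simp; rfl
      · change _ ≫ (dmap n (cokernel.π i)).f (n + 1) = _
        rw [dmap_f₁]; simp; rfl
    · have z1 : IsZero ((Dsc n X).X k) := isZero_double_X _ _ k h0 h1
      have z2 : IsZero ((Dsc n Y).X k) := isZero_double_X _ _ k h0 h1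
      have z3 : IsZero ((Dsc n (cokernel i)).X k) := isZero_double_X _ _ k h0 h1
      exact
        { exact := ShortComplex.exact_of_isZero_X₂ _ z2
          mono_f := ⟨fun _ _ _ => z1.eq_of_tgt _ _⟩
          epi_g := ⟨fun _ _ _ => z3.eq_of_src _ _⟩ }

lemma disc_acyclic (n : ℤ) (W : A) : (Dsc n W).Acyclic := by
  intro k
  by_cases h0 : k = n
  · subst h0
    rw [(Dsc k W).exactAt_iff' (k - 1) k (k + 1) (by simp) (by simp)]
    have hf : ((Dsc k W).sc' (k - 1) k (k + 1)).f = 0 :=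
      double_d_eq_zero₀ (𝟙 W) (hrel k) (k - 1) k (by omega)
    rw [ShortComplex.exact_iff_mono _ hf]
    change Mono ((Dsc k W).d k (k + 1))
    rw [double_d _ _ (hne k)]
    infer_instance
  · by_cases h1 : k = n + 1
    · subst h1
      rw [(Dsc n W).exactAt_iff' n (n + 1) (n + 1 + 1) (by simp) (by simp)]
      have hg : ((Dsc n W).sc' n (n + 1) (n + 1 + 1)).g = 0 :=
        double_d_eq_zero₀ (𝟙 W) (hrel n) (n + 1) (n + 1 + 1) (by omega)
      rw [ShortComplex.exact_iff_epi _ hg]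
      change Epi ((Dsc n W).d n (n + 1))
      rw [double_d _ _ (hne n)]
      infer_instance
    · have z : IsZero ((Dsc n W).X k) := isZero_double_X _ _ k h0 h1
      exact ShortComplex.exact_of_isZero_X₂ _ z

theorem injective_of_lift (I : CochainComplex A ℤ)
    (hI : ∀ (S : ShortComplex (CochainComplex A ℤ)), S.ShortExact → S.X₃.Acyclic →
        ∀ φ : S.X₁ ⟶ I, ∃ ψ : S.X₂ ⟶ I, S.f ≫ ψ = φ) (n : ℤ) : Injective (I.X n) where
  factors {X Y} g i _ := by
    let φ : Dsc n X ⟶ I := mkHomFromDouble (hrel n) (hne n) g (g ≫ I.d n (n + 1))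
      (by simp) (by simp)
    obtain ⟨ψ, hψ⟩ := hI (discSC n i) (discSC_shortExact n i) (disc_acyclic n _) φ
    change dmap n i ≫ ψ = φ at hψ
    refine ⟨(doubleXIso₀ (𝟙 Y) (hrel n)).inv ≫ ψ.f n, ?_⟩
    have h := congrArg (fun t => t.f n) hψ
    simp only [comp_f] at h
    rw [dmap_f₀] at h
    have h2 : φ.f n = (doubleXIso₀ (𝟙 X) (hrel n)).hom ≫ g := mkHomFromDouble_f₀ _ _ _ _ _ _
    rw [h2] at h
    simp only [Category.assoc] at h
    exact (cancel_epi _).1 h

end Groth.Agent.Lib.Helper6.KInj
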