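import Mathlib.Algebra.Homology.HomotopyCategory.KInjective
import Mathlib.Algebra.Homology.HomotopyCategory.DegreewiseSplit
import Mathlib.Algebra.Homology.HomotopyCategory.ShiftSequence
import Mathlib.Algebra.Homology.HomologicalComplexAbelian
import Mathlib.Algebra.Homology.ShortComplex.ShortExact
import Mathlib.CategoryTheory.Preadditive.Injective.Basic

set_option linter.unusedSectionVars false
set_option linter.unusedVariables false
set_option linter.unusedSimpArgs false
set_option autoImplicit false
set_option linter.style.haveILetI false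
set_option maxHeartbeats 400000

noncomputable section

namespace Groth.Agent.Lib.Helper6.KInj

open CategoryTheory CategoryTheory.Limits CochainComplex HomComplex

universe v u

variable {A : Type u} [Category.{v} A] [Abelian A]

lemma acyclic_shift_one (K : CochainComplex A ℤ) (hK : K.Acyclic) :
    (K⟦(1 : ℤ)⟧).Acyclic := by
  intro i
  rw [HomologicalComplex.exactAt_iff_isZero_homology]
  have e := ((HomologicalComplex.homologyFunctor A (ComplexShape.up ℤ) 0).shiftIso
    (1 : ℤ) i (1 + i) rfl).app K
  have hz : IsZero (K.homology (1 + i)) := by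
    rw [← HomologicalComplex.exactAt_iff_isZero_homology]
    exact hK (1 + i)
  exact IsZero.of_iso hz e

lemma coneShortExact (K : CochainComplex A ℤ) :
    (mappingCone.triangleRotateShortComplex (𝟙 K)).ShortExact := by
  apply HomologicalComplex.shortExact_of_degreewise_shortExact
  intro i
  exact (mappingCone.triangleRotateShortComplexSplitting (𝟙 K) i).shortExact

theorem kinj_of_lift (I : CochainComplex A ℤ)
    (hI : ∀ (S : ShortComplex (CochainComplex A ℤ)), S.ShortExact → S.X₃.Acyclic →
        ∀ φ : S.X₁ ⟶ I, ∃ ψ : S.X₂ ⟶ I, S.f ≫ ψ = φ) : I.IsKInjective where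
  nonempty_homotopy_zero {K} f hK := by
    obtain ⟨ψ, hψ⟩ := hI (mappingCone.triangleRotateShortComplex (𝟙 K)) (coneShortExact K)
      (acyclic_shift_one K hK) f
    change mappingCone.inr (𝟙 K) ≫ ψ = f at hψ
    let h : Cochain K I (-1) := (mappingCone.inl (𝟙 K)).comp (Cochain.ofHom ψ) (add_zero (-1))
    have hh : δ (-1) 0 h = Cochain.ofHom f := by
      change δ (-1) 0 ((mappingCone.inl (𝟙 K)).comp (Cochain.ofHom ψ) (add_zero (-1))) = _
      rw [δ_comp_ofHom, mappingCone.δ_inl, Category.id_comp, ← Cochain.ofHom_comp, hψ]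
    exact ⟨(Cochain.equivHomotopy f 0).symm ⟨h, by rw [hh, Cochain.ofHom_zero, add_zero]⟩⟩

end Groth.Agent.Lib.Helper6.KInj
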