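import Mathlib.Algebra.Homology.HomotopyCategory.KInjective
import Mathlib.Algebra.Homology.HomologicalComplexAbelian
import Mathlib.Algebra.Homology.ShortComplex.ShortExact
import Mathlib.CategoryTheory.Preadditive.Injective.Basic

set_option linter.unusedSectionVars false
set_option linter.unusedVariables false
set_option linter.unusedSimpArgs false
set_option autoImplicit false
set_option linter.style.haveILetI false
set_option maxHeartbeats 400000

noncomputable section

namespace Groth.Agent.Lib.Helper6.KInj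

open CategoryTheory CategoryTheory.Limits CochainComplex HomComplex

universe v u

variable {A : Type u} [Category.{v} A] [Abelian A]

theorem lift_of_kinj (I : CochainComplex A ℤ) [I.IsKInjective] [∀ n : ℤ, Injective (I.X n)]
    (S : ShortComplex (CochainComplex A ℤ)) (hS : S.ShortExact) (hacyc : S.X₃.Acyclic)
    (φ : S.X₁ ⟶ I) : ∃ ψ : S.X₂ ⟶ I, S.f ≫ ψ = φ := by
  have hdeg := (HomologicalComplex.shortExact_iff_degreewise_shortExact S).1 hS
  have hmono : ∀ n : ℤ, Mono (S.f.f n) := fun n => (hdeg n).mono_f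
  have hepi : ∀ n : ℤ, Epi (S.g.f n) := fun n => (hdeg n).epi_g
  have hfg : ∀ n : ℤ, S.f.f n ≫ S.g.f n = 0 := fun n => by
    rw [← HomologicalComplex.comp_f, S.zero]; rfl
  -- termwise extensions
  let ψ₀ : ∀ n : ℤ, S.X₂.X n ⟶ I.X n := fun n => Injective.factorThru (φ.f n) (S.f.f n)
  have hψ₀ : ∀ n : ℤ, S.f.f n ≫ ψ₀ n = φ.f n := fun n => Injective.comp_factorThru _ _
  let c : Cochain S.X₂ I 1 := δ 0 1 (Cochain.ofHoms ψ₀)
  have hfc : (Cochain.ofHom S.f).comp c (zero_add 1) = 0 := by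
    have h1 : (Cochain.ofHom S.f).comp (Cochain.ofHoms ψ₀) (zero_add 0) = Cochain.ofHom φ := by
      ext p
      rw [Cochain.zero_cochain_comp_v, Cochain.ofHom_v, Cochain.ofHoms_v, Cochain.ofHom_v, hψ₀]
    change (Cochain.ofHom S.f).comp (δ 0 1 (Cochain.ofHoms ψ₀)) (zero_add 1) = 0
    rw [← δ_ofHom_comp, h1, δ_ofHom]
  -- descend c to X₃
  have hcv : ∀ (p q : ℤ) (hpq : p + 1 = q), S.f.f p ≫ c.v p q hpq = 0 := by
    intro p q hpq
    have := Cochain.congr_v hfc p q hpq
    rw [Cochain.zero_cochain_comp_v, Cochain.ofHom_v, Cochain.zero_v] at this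
    exact this
  let γ : Cochain S.X₃ I 1 := Cochain.mk (fun p q hpq =>
    haveI : Epi (S.map (HomologicalComplex.eval A (ComplexShape.up ℤ) p)).g := (hdeg p).epi_g
    (hdeg p).exact.desc (c.v p q hpq) (hcv p q hpq))
  have hγ : (Cochain.ofHom S.g).comp γ (zero_add 1) = c := by
    ext p q hpq
    rw [Cochain.zero_cochain_comp_v, Cochain.ofHom_v]
    haveI : Epi (S.map (HomologicalComplex.eval A (ComplexShape.up ℤ) p)).g := (hdeg p).epi_g
    exact (hdeg p).exact.g_desc (c.v p q hpq) (hcv p q hpq)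
  have hγcoc : δ 1 2 γ = 0 := by
    have h1 : (Cochain.ofHom S.g).comp (δ 1 2 γ) (zero_add 2) = 0 := by
      rw [← δ_ofHom_comp, hγ]
      exact δ_δ 0 1 2 _
    ext p q hpq
    have h2 := Cochain.congr_v h1 p q hpq
    rw [Cochain.zero_cochain_comp_v, Cochain.ofHom_v, Cochain.zero_v] at h2
    haveI := hepi p
    rw [Cochain.zero_v, ← cancel_epi (S.g.f p), h2, comp_zero]
  obtain ⟨β, hβ⟩ := IsKInjective.eq_δ_of_cocycle (Cocycle.mk γ 2 rfl hγcoc) hacyc 0 (zero_add 1)
  change δ 0 1 β = γ at hβ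
  let ψc : Cochain S.X₂ I 0 := Cochain.ofHoms ψ₀ - (Cochain.ofHom S.g).comp β (zero_add 0)
  have hψc : δ 0 1 ψc = 0 := by
    change δ 0 1 (Cochain.ofHoms ψ₀ - (Cochain.ofHom S.g).comp β (zero_add 0)) = 0
    rw [δ_sub, δ_ofHom_comp, hβ, hγ]
    exact sub_self _
  refine ⟨Cocycle.homOf (Cocycle.mk ψc 1 (zero_add 1) hψc), ?_⟩
  ext p
  rw [HomologicalComplex.comp_f, Cocycle.homOf_f]
  change S.f.f p ≫ (Cochain.ofHoms ψ₀ - (Cochain.ofHom S.g).comp β (zero_add 0)).v p p (add_zero p)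
    = φ.f p
  rw [Cochain.sub_v, Cochain.ofHoms_v, Cochain.zero_cochain_comp_v, Cochain.ofHom_v,
    Preadditive.comp_sub, hψ₀, ← Category.assoc, hfg, zero_comp, sub_zero]

end Groth.Agent.Lib.Helper6.KInj
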